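import Mathlib
import Groth.Agent.H56.NoetherChain

/-!
# Noether normalization of a finite type algebra over a field adapted to one prime,
with the prime contracting to the ideal of the *last* variables
-/

set_option autoImplicit false
universe u

namespace Groth.Agent.H46.RefNN

open MvPolynomial

variable {k : Type u} [Field k]

/-- The image of `{i | i < h}` under `Fin.rev` is `{j | n - h ≤ j}`. -/
theorem rev_image_lt (n h : ℕ) (hh : h ≤ n) :
    (Fin.revPerm : Equiv.Perm (Fin n)) '' {i : Fin n | (i : ℕ) < h} =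
      {j : Fin n | n - h ≤ (j : ℕ)} := by
  ext j
  simp only [Set.mem_image, Set.mem_setOf_eq, Fin.revPerm_apply]
  constructor
  · rintro ⟨i, hi, rfl⟩
    rw [Fin.val_rev]
    omega
  · intro hj
    refine ⟨Fin.rev j, ?_, Fin.rev_rev j⟩
    rw [Fin.val_rev]
    omega

/-- **Noether normalization adapted to a prime, last variables.** -/
theorem exists_finite_aeval_comap (F : Type u) [CommRing F] [Algebra k F] [Algebra.FiniteType k F]
    [Nontrivial F] (n r : ℕ) (hdim : ringKrullDim F = (n : WithBot ℕ∞)) (Q : Ideal F) [Q.IsPrime]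
    (hQ : ringKrullDim (F ⧸ Q) = (r : WithBot ℕ∞)) :
    ∃ y : Fin n → F, (aeval y : MvPolynomial (Fin n) k →ₐ[k] F).toRingHom.Finite ∧
      Q.comap (aeval y : MvPolynomial (Fin n) k →ₐ[k] F) =
        Ideal.span (X '' {i : Fin n | r ≤ (i : ℕ)}) := by
  classical
  obtain ⟨d, ν, hνinj, hνfin⟩ := exists_finite_inj_algHom_of_fg k F
  have hd : ringKrullDim F = (d : WithBot ℕ∞) := by
    rw [← Groth.Agent.H54.ringKrullDim_eq_of_ringHom_isIntegral_of_injective ν.toRingHom
      hνfin.to_isIntegral hνinj, Groth.Agent.H54.ringKrullDim_mvPolynomial_fin_field]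
  have hdn : d = n := by
    rw [hd] at hdim
    exact_mod_cast hdim
  subst hdn
  set Q' : Ideal (MvPolynomial (Fin d) k) := Q.comap ν.toRingHom with hQ'
  haveI : Q'.IsPrime := Ideal.comap_isPrime _ _
  obtain ⟨ψ, hψ, hfam⟩ := Groth.Agent.H56.NoetherChain.coreFam (k := k) d {Q'} (by
    intro x hx
    rw [Finset.mem_singleton] at hx
    subst hx
    infer_instance)
  obtain ⟨h, hh, hcomap, hdimQ'⟩ := hfam Q' (Finset.mem_singleton_self _)
  have h2 : ringKrullDim (MvPolynomial (Fin d) k ⧸ Q') = ringKrullDim (F ⧸ Q) :=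
    Groth.Agent.H56.NoetherPrime.ringKrullDim_quotient_comap_eq ν.toRingHom hνfin.to_isIntegral Q
  have hr : d - h = r := by
    rw [hdimQ', hQ] at h2
    exact_mod_cast h2
  let ρ : MvPolynomial (Fin d) k ≃ₐ[k] MvPolynomial (Fin d) k := renameEquiv k Fin.revPerm
  let Φ : MvPolynomial (Fin d) k →ₐ[k] F := ν.comp (ψ.comp ρ.toAlgHom)
  refine ⟨fun i => Φ (X i), ?_, ?_⟩
  · have hΦ : (aeval fun i => Φ (X i) : MvPolynomial (Fin d) k →ₐ[k] F) = Φ := by
      apply MvPolynomial.algHom_ext
      intro i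
      simp
    rw [hΦ]
    have h1 : ψ.toRingHom.Finite :=
      Groth.Agent.H56.NoetherPrime.finite_of_isIntegral ψ hψ
    have h3 : ρ.toAlgHom.toRingHom.Finite :=
      RingHom.Finite.of_surjective _ ρ.surjective
    exact RingHom.Finite.comp (f := (ψ.comp ρ.toAlgHom).toRingHom) (g := ν.toRingHom) hνfin
      (RingHom.Finite.comp (f := ρ.toAlgHom.toRingHom) (g := ψ.toRingHom) h1 h3)
  · have hΦ : (aeval fun i => Φ (X i) : MvPolynomial (Fin d) k →ₐ[k] F) = Φ := by
      apply MvPolynomial.algHom_ext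
      intro i
      simp
    rw [hΦ]
    have e1 : Q.comap Φ = ((Q.comap ν.toRingHom).comap ψ.toRingHom).comap ρ.toRingEquiv := by
      ext x
      simp only [Ideal.mem_comap]
      rfl
    have e0 : Ideal.comap ψ.toRingHom Q' = Ideal.comap ψ Q' := rfl
    rw [e1, ← hQ', e0, hcomap]
    have e2 : (Ideal.span (X '' {i : Fin d | (i : ℕ) < h}) :
        Ideal (MvPolynomial (Fin d) k)).comap ρ.toRingEquiv =
        (Ideal.span (X '' {i : Fin d | (i : ℕ) < h})).map ρ.toRingEquiv.symm :=
      (Ideal.map_symm _).symm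
    rw [e2, Ideal.map_span, ← hr, ← rev_image_lt d h hh]
    congr 1
    ext z
    simp only [Set.mem_image, Set.mem_setOf_eq]
    constructor
    · rintro ⟨_, ⟨i, hi, rfl⟩, rfl⟩
      refine ⟨Fin.revPerm i, ⟨i, hi, rfl⟩, ?_⟩
      change X (Fin.revPerm i) = (renameEquiv k Fin.revPerm).symm (X i)
      rw [AlgEquiv.eq_symm_apply]
      simp [renameEquiv]
    · rintro ⟨_, ⟨i, hi, rfl⟩, rfl⟩
      refine ⟨X i, ⟨i, hi, rfl⟩, ?_⟩
      change (renameEquiv k Fin.revPerm).symm (X i) = X (Fin.revPerm i)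
      rw [AlgEquiv.symm_apply_eq]
      simp [renameEquiv]

end Groth.Agent.H46.RefNN
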