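import Mathlib
import Groth.Prelude.Def_Flat
import Groth.Agent.H46.FibDimQF
import Groth.Agent.H46.RefNN.FibreNN

/-!
# Refined relative Noether normalization: the algebraic core
-/

set_option autoImplicit false
set_option linter.style.haveILetI false
universe u

open TensorProduct MvPolynomial

namespace Groth.Agent.H46.RefNN

section poly

/-- The preimage of the ideal of some variables over `K` under the coefficient map `R[x] → K[x]`,
when the kernel of `R → K` is `p`. -/
theorem comap_map_span_X_image {R K : Type*} [CommRing R] [CommRing K] [Algebra R K] (p : Ideal R)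
    (hp : ∀ r : R, algebraMap R K r = 0 ↔ r ∈ p) {σ : Type*} (T : Set σ) :
    (Ideal.span (X '' T) : Ideal (MvPolynomial σ K)).comap (MvPolynomial.map (algebraMap R K)) =
      p.map (C : R →+* MvPolynomial σ R) ⊔ Ideal.span (X '' T) := by
  classical
  ext a
  rw [Ideal.mem_comap, mem_ideal_span_X_image]
  constructor
  · intro h
    rw [← a.support_sum_monomial_coeff]
    refine Ideal.sum_mem _ fun m _ => ?_
    by_cases hc : coeff m a ∈ p
    · refine Ideal.mem_sup_left ?_
      rw [mem_map_C_iff]
      intro m'
      rw [coeff_monomial]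
      split_ifs
      · exact hc
      · exact p.zero_mem
    · refine Ideal.mem_sup_right ?_
      rw [mem_ideal_span_X_image]
      intro m' hm'
      have hmm : m' = m := by
        have := support_monomial_subset hm'
        simpa using this
      subst hmm
      apply h
      rw [mem_support_iff, coeff_map, Ne, hp]
      exact hc
  · intro h m hm
    rw [mem_support_iff, coeff_map, Ne, hp] at hm
    obtain ⟨b, hb, c, hc, rfl⟩ := Submodule.mem_sup.mp h
    have hcm : coeff m c ≠ 0 := by
      intro h0
      apply hm
      rw [coeff_add, h0, add_zero]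
      exact mem_map_C_iff.mp hb m
    exact mem_ideal_span_X_image.mp hc m (mem_support_iff.mpr hcm)

/-- Scaling the variables by units preserves the ideal generated by some of the variables. -/
theorem comap_scale_span_X_image {K : Type*} [Field K] {σ : Type*} (T : Set σ) (b : σ → K)
    (hb : ∀ i, b i ≠ 0) :
    (Ideal.span (X '' T) : Ideal (MvPolynomial σ K)).comap
      (aeval (fun i => C (b i) * X i) : MvPolynomial σ K →ₐ[K] MvPolynomial σ K) =
      Ideal.span (X '' T) := by
  set τ : MvPolynomial σ K →ₐ[K] MvPolynomial σ K := aeval (fun i => C (b i) * X i) with hτ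
  set σ' : MvPolynomial σ K →ₐ[K] MvPolynomial σ K := aeval (fun i => C (b i)⁻¹ * X i) with hσ'
  have hcomp : σ'.comp τ = AlgHom.id K _ := by
    apply MvPolynomial.algHom_ext
    intro i
    simp only [hτ, hσ', AlgHom.comp_apply, aeval_X, map_mul, aeval_C, AlgHom.id_apply,
      algebraMap_eq]
    rw [← mul_assoc, ← C_mul, mul_inv_cancel₀ (hb i), C_1, one_mul]
  have h1 : ∀ (ρ : MvPolynomial σ K →ₐ[K] MvPolynomial σ K) (c : σ → K),
      ρ = aeval (fun i => C (c i) * X i) →
      (Ideal.span (X '' T) : Ideal (MvPolynomial σ K)) ≤ (Ideal.span (X '' T)).comap ρ := by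
    intro ρ c hρ
    rw [Ideal.span_le]
    rintro _ ⟨i, hi, rfl⟩
    rw [SetLike.mem_coe, Ideal.mem_comap, hρ, aeval_X]
    exact Ideal.mul_mem_left _ _ (Ideal.subset_span ⟨i, hi, rfl⟩)
  apply le_antisymm
  · intro x hx
    have h2 := h1 σ' (fun i => (b i)⁻¹) (by rw [hσ']) hx
    rw [Ideal.mem_comap] at h2
    have h3 : σ' (τ x) = x := by
      rw [← AlgHom.comp_apply, hcomp, AlgHom.id_apply]
    rwa [h3] at h2
  · exact h1 τ b rfl

end poly

section compat

variable {R S : Type u} [CommRing R] [CommRing S] [Algebra R S]

/-- Compatibility of evaluation with base change to the residue field. -/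
theorem aeval_one_tmul_map (p : Ideal R) [p.IsPrime] {n : ℕ} (s : Fin n → S)
    (a : MvPolynomial (Fin n) R) :
    (aeval (R := p.ResidueField)
      (fun i => ((1 : p.ResidueField) ⊗ₜ[R] s i : p.ResidueField ⊗[R] S)))
      (MvPolynomial.map (algebraMap R p.ResidueField) a) =
      (1 : p.ResidueField) ⊗ₜ[R] (aeval s a : S) := by
  induction a using MvPolynomial.induction_on with
  | C r =>
    rw [map_C, aeval_C, aeval_C, Algebra.TensorProduct.algebraMap_apply,
      Algebra.algebraMap_self, RingHom.id_apply, Algebra.algebraMap_eq_smul_one (A := S) r,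
      TensorProduct.tmul_smul, TensorProduct.smul_tmul', Algebra.smul_def, mul_one]
  | add x y hx hy => rw [map_add, map_add, map_add, hx, hy, TensorProduct.tmul_add]
  | mul_X x i hx =>
    rw [map_mul, map_mul, map_mul, hx, map_X, aeval_X, aeval_X,
      Algebra.TensorProduct.tmul_mul_tmul, one_mul]

end compat

section lemmaD

variable {R S : Type u} [CommRing R] [CommRing S] [Algebra R S] [Algebra.FiniteType R S]

/-- Noether normalization of the fibre adapted to a prime, with the images of the variables of
the form `1 ⊗ s`. -/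
theorem exists_finite_aeval_one_tmul_comap (p : Ideal R) [p.IsPrime]
    [Nontrivial (p.ResidueField ⊗[R] S)] (n r : ℕ)
    (hdim : ringKrullDim (p.ResidueField ⊗[R] S) = (n : WithBot ℕ∞))
    (Q : Ideal (p.ResidueField ⊗[R] S)) [Q.IsPrime]
    (hQ : ringKrullDim ((p.ResidueField ⊗[R] S) ⧸ Q) = (r : WithBot ℕ∞)) :
    ∃ s : Fin n → S, (MvPolynomial.aeval (R := p.ResidueField)
      (fun i => ((1 : p.ResidueField) ⊗ₜ[R] s i : p.ResidueField ⊗[R] S))).toRingHom.Finite ∧
      Q.comap (MvPolynomial.aeval (R := p.ResidueField)
        (fun i => ((1 : p.ResidueField) ⊗ₜ[R] s i : p.ResidueField ⊗[R] S))) =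
        Ideal.span (X '' {i : Fin n | r ≤ (i : ℕ)}) := by
  classical
  obtain ⟨y, hyfin, hycomap⟩ := exists_finite_aeval_comap (k := p.ResidueField)
    (p.ResidueField ⊗[R] S) n r hdim Q hQ
  choose b hb s hs using fun i : Fin n => Ideal.Fiber.exists_smul_eq_one_tmul p (y i)
  have hbne : ∀ i, algebraMap R p.ResidueField (b i) ≠ 0 := by
    intro i
    rw [Ne, Ideal.algebraMap_residueField_eq_zero]
    exact hb i
  refine ⟨s, ?_, ?_⟩
  · let σ : MvPolynomial (Fin n) p.ResidueField →ₐ[p.ResidueField]
        MvPolynomial (Fin n) p.ResidueField :=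
      MvPolynomial.aeval (fun i : Fin n =>
        MvPolynomial.C ((algebraMap R p.ResidueField (b i))⁻¹) * MvPolynomial.X i)
    have hcomp : (aeval y : MvPolynomial (Fin n) p.ResidueField →ₐ[p.ResidueField] _) =
        (MvPolynomial.aeval (R := p.ResidueField)
        (fun i => ((1 : p.ResidueField) ⊗ₜ[R] s i : p.ResidueField ⊗[R] S))).comp σ := by
      apply MvPolynomial.algHom_ext
      intro i
      simp only [σ, AlgHom.comp_apply, MvPolynomial.aeval_X, map_mul, MvPolynomial.aeval_C]
      rw [← hs i, Algebra.smul_def, IsScalarTower.algebraMap_apply R p.ResidueField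
        (p.ResidueField ⊗[R] S), ← mul_assoc, ← map_mul, inv_mul_cancel₀ (hbne i), map_one,
        one_mul]
    rw [hcomp] at hyfin
    exact RingHom.Finite.of_comp_finite (f := σ.toRingHom) hyfin
  · let τ : MvPolynomial (Fin n) p.ResidueField →ₐ[p.ResidueField]
        MvPolynomial (Fin n) p.ResidueField :=
      MvPolynomial.aeval (fun i : Fin n =>
        MvPolynomial.C (algebraMap R p.ResidueField (b i)) * MvPolynomial.X i)
    have hcomp : (MvPolynomial.aeval (R := p.ResidueField)
        (fun i => ((1 : p.ResidueField) ⊗ₜ[R] s i : p.ResidueField ⊗[R] S))) =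
        (aeval y : MvPolynomial (Fin n) p.ResidueField →ₐ[p.ResidueField] _).comp τ := by
      apply MvPolynomial.algHom_ext
      intro i
      simp only [τ, AlgHom.comp_apply, MvPolynomial.aeval_X, map_mul, MvPolynomial.aeval_C]
      rw [← hs i, Algebra.smul_def, IsScalarTower.algebraMap_apply R p.ResidueField
        (p.ResidueField ⊗[R] S)]
    rw [hcomp]
    have : Q.comap ((aeval y : MvPolynomial (Fin n) p.ResidueField →ₐ[p.ResidueField] _).comp τ) =
        (Q.comap (aeval y : MvPolynomial (Fin n) p.ResidueField →ₐ[p.ResidueField] _)).comap τ := by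
      ext x
      simp only [Ideal.mem_comap, AlgHom.comp_apply]
    rw [this, hycomap]
    exact comap_scale_span_X_image _ _ hbne

end lemmaD

end Groth.Agent.H46.RefNN
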