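import Mathlib
import Groth.Prelude.Def_Flat
import Groth.Agent.H46.FibDimQF
import Groth.Agent.H11.SmoothDim1
import Groth.Agent.H17.Chev.TopLocalDim
import Groth.Agent.H17.DimIneq
import Groth.Agent.H24.Catenary

/-!
# Dimension of the fibre near a point, and dimension of the closure of a point of the fibre
-/

set_option autoImplicit false
set_option linter.style.haveILetI false
universe u

open TensorProduct

namespace Groth.Agent.H46.RefNN

/-- The local dimension at `Q` is at most the dimension of any basic open neighbourhood. -/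
theorem localDim_le_ringKrullDim_away {F : Type u} [CommRing F] (Q : PrimeSpectrum F) (f : F)
    (hf : f ∉ Q.asIdeal) :
    FlatMor.localDim (PrimeSpectrum F) Q ≤ ringKrullDim (Localization.Away f) := by
  have hdisj : Disjoint (Submonoid.powers f : Set F) (Q.asIdeal : Set F) := by
    rw [Set.disjoint_left]
    rintro x ⟨m, rfl⟩ hx
    exact hf (Ideal.IsPrime.mem_of_pow_mem Q.2 m hx)
  let Q' : PrimeSpectrum (Localization.Away f) :=
    ⟨Q.asIdeal.map (algebraMap F (Localization.Away f)),
      IsLocalization.isPrime_of_isPrime_disjoint (Submonoid.powers f) _ Q.asIdeal Q.2 hdisj⟩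
  have hc : PrimeSpectrum.comap (algebraMap F (Localization.Away f)) Q' = Q :=
    PrimeSpectrum.ext
      (IsLocalization.comap_map_of_isPrime_disjoint (Submonoid.powers f) _ Q.2 hdisj)
  rw [← hc, ← Groth.Agent.H11.SmoothDim1.localDim_comap_away f Q',
    ← PrimeSpectrum.topologicalKrullDim_eq_ringKrullDim]
  exact Groth.Agent.H17.Chev.localDim_le_dim Q'

/-- Local dimension `n` at `Q` gives a basic open neighbourhood of dimension exactly `n`. -/
theorem exists_away_dim_eq {F : Type u} [CommRing F] (Q : PrimeSpectrum F) (n : WithBot ℕ∞)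
    (h : FlatMor.localDim (PrimeSpectrum F) Q = n) :
    ∃ f : F, f ∉ Q.asIdeal ∧ ringKrullDim (Localization.Away f) = n := by
  obtain ⟨f, hfQ, hf⟩ := Groth.Agent.H46.FibDimQF.exists_away_dim_le Q n h.le
  exact ⟨f, hfQ, le_antisymm hf (h ▸ localDim_le_ringKrullDim_away Q f hfQ)⟩

section fibre

variable {R S : Type u} [CommRing R] [CommRing S] [Algebra R S]

/-- Shrinking `Spec S` to a principal open around `q`, the whole fibre over `p` has dimension
equal to the local dimension of the fibre at the point. -/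
theorem exists_away_fibre_dim_eq (p : Ideal R) [p.IsPrime] (q : Ideal S)
    (Q : PrimeSpectrum (p.Fiber S))
    (hQ : Q.asIdeal.comap (Algebra.TensorProduct.includeRight.toRingHom) = q) (n : WithBot ℕ∞)
    (h : FlatMor.localDim (PrimeSpectrum (p.Fiber S)) Q = n) :
    ∃ g : S, g ∉ q ∧ ringKrullDim (p.ResidueField ⊗[R] Localization.Away g) = n := by
  obtain ⟨f, hfQ, hf⟩ := exists_away_dim_eq Q n h
  obtain ⟨r, hr, g, hrg⟩ := Ideal.Fiber.exists_smul_eq_one_tmul p f
  have hru : IsUnit (algebraMap R (p.Fiber S) r) := by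
    rw [IsScalarTower.algebraMap_apply R p.ResidueField (p.Fiber S)]
    refine IsUnit.map _ (IsUnit.mk0 _ ?_)
    rwa [Ne, Ideal.algebraMap_residueField_eq_zero]
  have hass : Associated f ((1 : p.ResidueField) ⊗ₜ[R] g) := by
    refine ⟨hru.unit, ?_⟩
    rw [← hrg, Algebra.smul_def, mul_comm]
    rfl
  refine ⟨g, ?_, ?_⟩
  · intro hgq
    rw [← hQ] at hgq
    have h1 : ((1 : p.ResidueField) ⊗ₜ[R] g : p.Fiber S) ∈ Q.asIdeal := hgq
    rw [← hrg, Algebra.smul_def] at h1
    rcases Q.2.mem_or_mem h1 with h2 | h2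
    · exact Q.2.ne_top (Ideal.eq_top_of_isUnit_mem _ h2 hru)
    · exact hfQ h2
  · haveI : IsLocalization.Away ((1 : p.ResidueField) ⊗ₜ[R] g : p.Fiber S)
        (Localization.Away f) := IsLocalization.Away.of_associated hass
    letI : Algebra (p.ResidueField ⊗[R] S) (p.ResidueField ⊗[R] Localization.Away g) :=
      (tensorAwayMap R p.ResidueField S (Localization.Away g)).toRingHom.toAlgebra
    haveI : IsLocalization.Away ((1 : p.ResidueField) ⊗ₜ[R] g : p.ResidueField ⊗[R] S)
        (p.ResidueField ⊗[R] Localization.Away g) :=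
      isLocalization_away_tensor R p.ResidueField S (Localization.Away g) g
    have e : Localization.Away f ≃ₐ[p.ResidueField ⊗[R] S]
        (p.ResidueField ⊗[R] Localization.Away g) :=
      IsLocalization.algEquiv (Submonoid.powers ((1 : p.ResidueField) ⊗ₜ[R] g : p.Fiber S)) _ _
    rw [← ringKrullDim_eq_of_ringEquiv e.toRingEquiv]
    exact hf

end fibre

section trdeg

variable (R S : Type u) [CommRing R] [CommRing S] [Algebra R S]

set_option backward.isDefEq.respectTransparency.types false in
/-- The transcendence degree of the residue field extension, computed on the quotient domains. -/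
theorem trdeg_residueField_eq (p : Ideal R) [p.IsPrime] (q : Ideal S) [q.IsPrime] [q.LiesOver p]
    [Algebra (Localization.AtPrime p) (Localization.AtPrime q)]
    [Localization.AtPrime.IsLiesOverAlgebra p q] :
    Algebra.trdeg p.ResidueField q.ResidueField = Algebra.trdeg (R ⧸ p) (S ⧸ q) := by
  letI := ((algebraMap (S ⧸ q) q.ResidueField).comp (algebraMap (R ⧸ p) (S ⧸ q))).toAlgebra
  haveI : IsScalarTower (R ⧸ p) (S ⧸ q) q.ResidueField := .of_algebraMap_eq' rfl
  haveI : IsScalarTower (R ⧸ p) p.ResidueField q.ResidueField := by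
    refine .of_algebraMap_eq fun x ↦ ?_
    obtain ⟨x, rfl⟩ := Ideal.Quotient.mk_surjective x
    simp [RingHom.algebraMap_toAlgebra, ← IsScalarTower.algebraMap_apply]
  haveI : FaithfulSMul (R ⧸ p) p.ResidueField :=
    (faithfulSMul_iff_algebraMap_injective _ _).mpr
      (Ideal.injective_algebraMap_quotient_residueField p)
  haveI : FaithfulSMul (S ⧸ q) q.ResidueField :=
    (faithfulSMul_iff_algebraMap_injective _ _).mpr
      (Ideal.injective_algebraMap_quotient_residueField q)
  exact Groth.Agent.H17.DimIneq.trdeg_eq_of_square (R ⧸ p) (S ⧸ q) p.ResidueField q.ResidueField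

/-- Localizing away from `g ∉ q` does not change the transcendence degree of the quotient. -/
theorem trdeg_quotient_away_eq (p : Ideal R) [p.IsPrime] (q : Ideal S) [q.IsPrime] [q.LiesOver p]
    (g : S) (hg : g ∉ q) (q₀ : Ideal (Localization.Away g)) [q₀.IsPrime] [q₀.LiesOver p]
    (hq₀ : q₀.comap (algebraMap S (Localization.Away g)) = q) :
    Algebra.trdeg (R ⧸ p) (Localization.Away g ⧸ q₀) = Algebra.trdeg (R ⧸ p) (S ⧸ q) := by
  haveI : q₀.LiesOver q := ⟨hq₀.symm⟩
  haveI : IsScalarTower (R ⧸ p) (S ⧸ q) (Localization.Away g ⧸ q₀) := by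
    refine .of_algebraMap_eq fun x => ?_
    obtain ⟨x, rfl⟩ := Ideal.Quotient.mk_surjective x
    rw [Ideal.Quotient.algebraMap_mk_of_liesOver, Ideal.Quotient.algebraMap_mk_of_liesOver,
      Ideal.Quotient.algebraMap_mk_of_liesOver, ← IsScalarTower.algebraMap_apply]
  haveI : Algebra.IsAlgebraic (S ⧸ q) (Localization.Away g ⧸ q₀) := by
    refine ⟨fun c => ?_⟩
    obtain ⟨c, rfl⟩ := Ideal.Quotient.mk_surjective c
    obtain ⟨m, s, hs⟩ := IsLocalization.Away.surj g c
    refine ⟨Polynomial.C (Ideal.Quotient.mk q (g ^ m)) * Polynomial.X -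
      Polynomial.C (Ideal.Quotient.mk q s), ?_, ?_⟩
    · intro h
      have := congrArg (fun P => Polynomial.coeff P 1) h
      simp only [Polynomial.coeff_sub, Polynomial.coeff_C_mul, Polynomial.coeff_X_one, mul_one,
        Polynomial.coeff_C_succ, sub_zero, Polynomial.coeff_zero] at this
      rw [Ideal.Quotient.eq_zero_iff_mem] at this
      exact hg (Ideal.IsPrime.mem_of_pow_mem inferInstance m this)
    · simp only [map_sub, map_mul, Polynomial.aeval_C, Polynomial.aeval_X]
      rw [Ideal.Quotient.algebraMap_mk_of_liesOver, Ideal.Quotient.algebraMap_mk_of_liesOver,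
        ← map_mul, ← map_sub, Ideal.Quotient.eq_zero_iff_mem, map_pow, mul_comm, hs, sub_self]
      exact q₀.zero_mem
  exact Groth.Agent.H17.DimIneq.trdeg_eq_of_isAlgebraic_top (R ⧸ p) (S ⧸ q)
    (Localization.Away g ⧸ q₀)

end trdeg

section closure

variable (R S : Type u) [CommRing R] [CommRing S] [Algebra R S] [Algebra.FiniteType R S]

/-- The dimension of the closure of a point of the fibre is the transcendence degree of the
residue field extension. -/
theorem ringKrullDim_quotient_fiber_eq (p : Ideal R) [p.IsPrime] (q : Ideal S) [q.IsPrime]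
    [q.LiesOver p] (Q : Ideal (p.Fiber S)) [Q.IsPrime]
    (hQ : Q.comap (Algebra.TensorProduct.includeRight : S →ₐ[R] p.Fiber S).toRingHom = q) (r : ℕ)
    (hr : Algebra.trdeg (R ⧸ p) (S ⧸ q) = r) :
    ringKrullDim (p.Fiber S ⧸ Q) = (r : WithBot ℕ∞) := by
  have h2 := Groth.Agent.H11.FtDim.coheight_eq_trdeg (k := p.ResidueField) (S := p.Fiber S) Q r
    ((Groth.Agent.H17.DimIneq.trdeg_residueField_fiber R S p Q
      (iA := IsLocalRing.ResidueField.algebra (Localization.AtPrime Q)) q hQ).trans hr)
  rw [← Groth.Agent.H24.coheight_eq_ringKrullDim_quotient (⟨Q, inferInstance⟩ :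
    PrimeSpectrum (p.Fiber S)), h2]
  rfl

end closure

end Groth.Agent.H46.RefNN
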