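import Mathlib
import Groth.Prelude.Def_Flat
import Groth.Agent.H46.FibDimQF
import Groth.Agent.H46.RefNN.Core
import Groth.Agent.H46.RefNN.FibreDim

/-!
# Refined relative Noether normalization (quasi-finite map to affine space with prescribed
preimage of the point)
-/

set_option autoImplicit false
set_option linter.style.haveILetI false
universe u

open TensorProduct MvPolynomial

namespace Groth.Agent.H46.RefNN

section lemmaE

variable {R S : Type u} [CommRing R] [CommRing S] [Algebra R S] [Algebra.FiniteType R S]

/-- If `κ(p)[x] → κ(p) ⊗ S`, `x_i ↦ 1 ⊗ s_i`, is finite, then `R[x] → S`, `x_i ↦ s_i`, is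
quasi-finite at every prime `q` over `p`. -/
theorem quasiFiniteAt_of_finite_aeval_one_tmul (p : Ideal R) [p.IsPrime] (q : Ideal S) [q.IsPrime]
    [q.LiesOver p] (n : ℕ) (s : Fin n → S)
    (hs : (MvPolynomial.aeval (R := p.ResidueField)
      (fun i => ((1 : p.ResidueField) ⊗ₜ[R] s i : p.ResidueField ⊗[R] S))).toRingHom.Finite) :
    @Algebra.QuasiFiniteAt (MvPolynomial (Fin n) R) S _ _
      (MvPolynomial.aeval s : MvPolynomial (Fin n) R →ₐ[R] S).toRingHom.toAlgebra q _ := by
  classical
  let φ : MvPolynomial (Fin n) R →ₐ[R] S := MvPolynomial.aeval s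
  change @Algebra.QuasiFiniteAt (MvPolynomial (Fin n) R) S _ _ φ.toRingHom.toAlgebra q _
  letI : Algebra (MvPolynomial (Fin n) R) S := φ.toRingHom.toAlgebra
  haveI : IsScalarTower R (MvPolynomial (Fin n) R) S :=
    IsScalarTower.of_algebraMap_eq' φ.comp_algebraMap.symm
  haveI : Algebra.FiniteType (MvPolynomial (Fin n) R) S :=
    Algebra.FiniteType.of_restrictScalars_finiteType R _ _
  -- the map on fibres over `p` is finite
  have hM : (Algebra.TensorProduct.map (AlgHom.id p.ResidueField p.ResidueField)
      (IsScalarTower.toAlgHom R (MvPolynomial (Fin n) R) S)).toRingHom.Finite := by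
    have hM' : Algebra.TensorProduct.map (AlgHom.id p.ResidueField p.ResidueField)
        (IsScalarTower.toAlgHom R (MvPolynomial (Fin n) R) S) =
        (MvPolynomial.aeval (R := p.ResidueField)
          (fun i => ((1 : p.ResidueField) ⊗ₜ[R] s i : p.ResidueField ⊗[R] S))).comp
          (MvPolynomial.algebraTensorAlgEquiv R p.ResidueField).toAlgHom := by
      apply Algebra.TensorProduct.ext
      · ext
      · apply MvPolynomial.algHom_ext
        intro i
        simp only [AlgHom.comp_apply, AlgHom.coe_restrictScalars', Algebra.TensorProduct.includeRight_apply,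
          Algebra.TensorProduct.map_tmul, map_one, IsScalarTower.coe_toAlgHom', AlgEquiv.toAlgHom_eq_coe,
          AlgHom.coe_coe, MvPolynomial.algebraTensorAlgEquiv_tmul, MvPolynomial.map_X, one_smul,
          MvPolynomial.aeval_X]
        change (1 : p.ResidueField) ⊗ₜ[R] φ (MvPolynomial.X i) = _
        have h1 : (MvPolynomial.algebraTensorAlgEquiv R p.ResidueField)
            ((1 : p.ResidueField) ⊗ₜ[R] (MvPolynomial.X i : MvPolynomial (Fin n) R)) =
            MvPolynomial.X i := by
          rw [MvPolynomial.algebraTensorAlgEquiv_tmul, MvPolynomial.map_X, one_smul]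
        rw [MvPolynomial.aeval_X]
        exact ((congrArg (MvPolynomial.aeval (R := p.ResidueField)
          (fun i => ((1 : p.ResidueField) ⊗ₜ[R] s i : p.ResidueField ⊗[R] S))) h1).trans
          (MvPolynomial.aeval_X _ _)).symm
    rw [hM']
    exact RingHom.Finite.comp (f := (MvPolynomial.algebraTensorAlgEquiv R p.ResidueField).toAlgHom.toRingHom)
      hs (RingHom.Finite.of_surjective _ (MvPolynomial.algebraTensorAlgEquiv R p.ResidueField).surjective)
  -- the prime below `q`
  let P : Ideal (MvPolynomial (Fin n) R) := q.under (MvPolynomial (Fin n) R)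
  haveI : P.IsPrime := inferInstance
  haveI : q.LiesOver P := inferInstance
  have hCP : ∀ r : R, algebraMap R P.ResidueField r = 0 ↔ r ∈ p := by
    intro r
    rw [IsScalarTower.algebraMap_apply R (MvPolynomial (Fin n) R) P.ResidueField,
      Ideal.algebraMap_residueField_eq_zero, Ideal.mem_comap, ← IsScalarTower.algebraMap_apply,
      q.over_def p, Ideal.mem_comap]
  let j : p.ResidueField →ₐ[R] P.ResidueField :=
    Ideal.ResidueField.liftₐ p (Algebra.ofId R P.ResidueField)
      (fun r hr => (hCP r).mpr hr)
      (fun r hr => IsUnit.mk0 _ (fun h0 => hr ((hCP r).mp h0)))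
  haveI hfinK : Module.Finite P.ResidueField (P.Fiber S) :=
    Groth.Agent.H46.FibDimQF.finite_tensor_of_finite_fibre (R := R)
      (A := MvPolynomial (Fin n) R) (S := S) (κ := p.ResidueField) (K := P.ResidueField) j hM
  let q' : Ideal (P.Fiber S) :=
    (PrimeSpectrum.primesOverOrderIsoFiber (MvPolynomial (Fin n) R) S P ⟨q, ‹_›, ‹_›⟩).asIdeal
  have hq' : q = q'.comap Algebra.TensorProduct.includeRight.toRingHom :=
    congr($((PrimeSpectrum.primesOverOrderIsoFiber (MvPolynomial (Fin n) R) S P).symm_apply_apply
      ⟨q, ‹_›, ‹_›⟩).1).symm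
  haveI : Algebra.QuasiFiniteAt P.ResidueField q' := inferInstance
  exact Algebra.QuasiFiniteAt.of_quasiFiniteAt_residueField P q q' hq'.symm

end lemmaE

section main

variable {R S : Type u} [CommRing R] [CommRing S] [Algebra R S] [Algebra.FiniteType R S]

/-- Refined relative Noether normalization, with `R`-coefficients. -/
theorem main (p : Ideal R) [p.IsPrime] (q : Ideal S) [q.IsPrime] [q.LiesOver p]
    (Q : PrimeSpectrum (p.Fiber S))
    (hQ : Q.asIdeal.comap (Algebra.TensorProduct.includeRight.toRingHom) = q) (n r : ℕ)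
    (hdim : FlatMor.localDim (PrimeSpectrum (p.Fiber S)) Q = (n : WithBot ℕ∞))
    (hr : Algebra.trdeg (R ⧸ p) (S ⧸ q) = r) :
    ∃ g : S, g ∉ q ∧ ∃ φ : MvPolynomial (Fin n) R →ₐ[R] Localization.Away g,
      φ.toRingHom.FiniteType ∧ φ.toRingHom.QuasiFinite ∧
      (q.map (algebraMap S (Localization.Away g))).comap φ =
        p.map (C : R →+* MvPolynomial (Fin n) R) ⊔
          Ideal.span (X '' {i : Fin n | r ≤ (i : ℕ)}) := by
  classical
  obtain ⟨g₀, hg₀, hd⟩ := exists_away_fibre_dim_eq p q Q hQ n hdim
  -- the prime of `S_{g₀}`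
  have hdisj : Disjoint (Submonoid.powers g₀ : Set S) (q : Set S) := by
    rw [Set.disjoint_left]
    rintro x ⟨m, rfl⟩ hx
    exact hg₀ (Ideal.IsPrime.mem_of_pow_mem inferInstance m hx)
  let q₀ : Ideal (Localization.Away g₀) := q.map (algebraMap S (Localization.Away g₀))
  haveI hq₀ : q₀.IsPrime :=
    IsLocalization.isPrime_of_isPrime_disjoint (Submonoid.powers g₀) _ q inferInstance hdisj
  have hq₀c : q₀.comap (algebraMap S (Localization.Away g₀)) = q :=
    IsLocalization.comap_map_of_isPrime_disjoint (Submonoid.powers g₀) _ inferInstance hdisj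
  haveI : q₀.LiesOver p := ⟨by
    rw [Ideal.under, IsScalarTower.algebraMap_eq R S (Localization.Away g₀), ← Ideal.comap_comap,
      hq₀c]
    exact q.over_def p⟩
  haveI : Algebra.FiniteType R (Localization.Away g₀) :=
    Algebra.FiniteType.trans (inferInstance : Algebra.FiniteType R S)
      (IsLocalization.finiteType_of_monoid_fg (Submonoid.powers g₀) _)
  -- the prime of the fibre of `S_{g₀}`
  let Q₀ : PrimeSpectrum (p.Fiber (Localization.Away g₀)) :=
    PrimeSpectrum.primesOverOrderIsoFiber R (Localization.Away g₀) p ⟨q₀, hq₀, inferInstance⟩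
  have hQ₀ : Q₀.asIdeal.comap (Algebra.TensorProduct.includeRight.toRingHom) = q₀ :=
    congr($((PrimeSpectrum.primesOverOrderIsoFiber R (Localization.Away g₀) p).symm_apply_apply
      ⟨q₀, hq₀, inferInstance⟩).1)
  haveI : Nontrivial (p.ResidueField ⊗[R] Localization.Away g₀) := Q₀.nontrivial
  have hr₀ : Algebra.trdeg (R ⧸ p) (Localization.Away g₀ ⧸ q₀) = r :=
    (trdeg_quotient_away_eq R S p q g₀ hg₀ q₀ hq₀c).trans hr
  have hQ₀dim : ringKrullDim (p.Fiber (Localization.Away g₀) ⧸ Q₀.asIdeal) = (r : WithBot ℕ∞) :=
    ringKrullDim_quotient_fiber_eq R (Localization.Away g₀) p q₀ Q₀.asIdeal hQ₀ r hr₀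
  obtain ⟨s, hsfin, hscomap⟩ := exists_finite_aeval_one_tmul_comap (S := Localization.Away g₀)
    p n r hd Q₀.asIdeal hQ₀dim
  let φ₀ : MvPolynomial (Fin n) R →ₐ[R] Localization.Away g₀ := aeval s
  have hφ₀ : @Algebra.QuasiFiniteAt (MvPolynomial (Fin n) R) (Localization.Away g₀) _ _
      φ₀.toRingHom.toAlgebra q₀ _ := quasiFiniteAt_of_finite_aeval_one_tmul p q₀ n s hsfin
  have hcomap₀ : q₀.comap φ₀ = p.map (C : R →+* MvPolynomial (Fin n) R) ⊔
      Ideal.span (X '' {i : Fin n | r ≤ (i : ℕ)}) := by
    rw [← comap_map_span_X_image (K := p.ResidueField) p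
      (fun _ => Ideal.algebraMap_residueField_eq_zero), ← hscomap]
    ext a
    simp only [Ideal.mem_comap]
    rw [aeval_one_tmul_map, ← hQ₀]
    rfl
  letI : Algebra (MvPolynomial (Fin n) R) (Localization.Away g₀) := φ₀.toRingHom.toAlgebra
  haveI : IsScalarTower R (MvPolynomial (Fin n) R) (Localization.Away g₀) :=
    IsScalarTower.of_algebraMap_eq' φ₀.comp_algebraMap.symm
  haveI : Algebra.FiniteType (MvPolynomial (Fin n) R) (Localization.Away g₀) :=
    Algebra.FiniteType.of_restrictScalars_finiteType R _ _
  obtain ⟨t, ht, hqf⟩ := Groth.Agent.H3.QuasiFiniteAway.exists_away_quasiFinite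
    (A := MvPolynomial (Fin n) R) q₀
  obtain ⟨m, r', hr'⟩ := IsLocalization.Away.surj g₀ t
  have hu : IsUnit (algebraMap S (Localization.Away g₀) g₀ ^ m) :=
    (IsLocalization.Away.algebraMap_isUnit g₀).pow m
  have hass : Associated (algebraMap S (Localization.Away g₀) r') t :=
    Associated.symm (show Associated t (algebraMap S (Localization.Away g₀) r') from
      ⟨hu.unit, hr'⟩)
  have hr'q : r' ∉ q := by
    intro h
    have h1 : algebraMap S (Localization.Away g₀) r' ∈ q₀ := Ideal.mem_map_of_mem _ h
    rw [← hr'] at h1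
    rcases hq₀.mem_or_mem h1 with h2 | h2
    · exact ht h2
    · exact hq₀.ne_top (Ideal.eq_top_of_isUnit_mem _ h2 hu)
  haveI : IsLocalization.Away (g₀ * r') (Localization.Away t) :=
    IsLocalization.Away.mul_of_associated g₀ r' t hass
  refine ⟨g₀ * r', fun h => (Ideal.IsPrime.mem_or_mem inferInstance h).elim hg₀ hr'q, ?_⟩
  let e : Localization.Away (g₀ * r') ≃ₐ[S] Localization.Away t :=
    IsLocalization.algEquiv (Submonoid.powers (g₀ * r')) _ _
  let φT : MvPolynomial (Fin n) R →ₐ[R] Localization.Away t :=
    IsScalarTower.toAlgHom R (MvPolynomial (Fin n) R) (Localization.Away t)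
  let φ : MvPolynomial (Fin n) R →ₐ[R] Localization.Away (g₀ * r') :=
    ((e.symm.restrictScalars R : Localization.Away t ≃ₐ[R] _) : Localization.Away t →ₐ[R] _).comp φT
  refine ⟨φ, ?_, ?_, ?_⟩
  · haveI : Algebra.FiniteType R (Localization.Away (g₀ * r')) :=
      Algebra.FiniteType.trans (inferInstance : Algebra.FiniteType R S)
        (IsLocalization.finiteType_of_monoid_fg (Submonoid.powers (g₀ * r')) _)
    have h1 : (algebraMap R (Localization.Away (g₀ * r'))).FiniteType :=
      RingHom.finiteType_algebraMap.mpr inferInstance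
    rw [← φ.comp_algebraMap] at h1
    exact RingHom.FiniteType.of_comp_finiteType h1
  · have h1 : (algebraMap (MvPolynomial (Fin n) R) (Localization.Away t)).QuasiFinite :=
      RingHom.quasiFinite_algebraMap.mpr hqf
    have h2 : (e.symm : Localization.Away t →+* Localization.Away (g₀ * r')).QuasiFinite :=
      RingHom.QuasiFinite.of_finite (RingHom.Finite.of_surjective _ e.symm.surjective)
    exact RingHom.QuasiFinite.comp h2 h1
  · rw [← hcomap₀]
    have hdisjt : Disjoint (Submonoid.powers t : Set (Localization.Away g₀))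
        (q₀ : Set (Localization.Away g₀)) := by
      rw [Set.disjoint_left]
      rintro x ⟨m, rfl⟩ hx
      exact ht (Ideal.IsPrime.mem_of_pow_mem inferInstance m hx)
    have h3 : (q₀.map (algebraMap (Localization.Away g₀) (Localization.Away t))).comap
        (algebraMap (Localization.Away g₀) (Localization.Away t)) = q₀ :=
      IsLocalization.comap_map_of_isPrime_disjoint (Submonoid.powers t) _ inferInstance hdisjt
    have h2 : q.map (algebraMap S (Localization.Away t)) =
        q₀.map (algebraMap (Localization.Away g₀) (Localization.Away t)) := by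
      rw [Ideal.map_map, ← IsScalarTower.algebraMap_eq]
    have h1 : (q.map (algebraMap S (Localization.Away (g₀ * r')))).comap
        (e.symm : Localization.Away t →+* Localization.Away (g₀ * r')) =
        q.map (algebraMap S (Localization.Away t)) := by
      have : (q.map (algebraMap S (Localization.Away (g₀ * r')))).comap
          (e.symm : Localization.Away t →+* Localization.Away (g₀ * r')) =
          (q.map (algebraMap S (Localization.Away (g₀ * r')))).map
            (e : Localization.Away (g₀ * r') →+* Localization.Away t) :=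
        Ideal.comap_symm (e : Localization.Away (g₀ * r') ≃+* Localization.Away t)
      rw [this, Ideal.map_map]
      congr 1
      ext x
      exact e.commutes x
    ext x
    rw [Ideal.mem_comap, Ideal.mem_comap]
    have hφx : φ x = e.symm (algebraMap (Localization.Away g₀) (Localization.Away t) (φ₀ x)) := by
      change e.symm (algebraMap (MvPolynomial (Fin n) R) (Localization.Away t) x) = _
      rw [IsScalarTower.algebraMap_apply (MvPolynomial (Fin n) R) (Localization.Away g₀)
        (Localization.Away t)]
      rfl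
    rw [hφx]
    constructor
    · intro hx
      have h4 : algebraMap (Localization.Away g₀) (Localization.Away t) (φ₀ x) ∈
          (q.map (algebraMap S (Localization.Away (g₀ * r')))).comap
            (e.symm : Localization.Away t →+* Localization.Away (g₀ * r')) := hx
      rw [h1, h2] at h4
      have h5 : φ₀ x ∈ (q₀.map (algebraMap (Localization.Away g₀) (Localization.Away t))).comap
          (algebraMap (Localization.Away g₀) (Localization.Away t)) := h4
      rwa [h3] at h5
    · intro hx
      have h4 : algebraMap (Localization.Away g₀) (Localization.Away t) (φ₀ x) ∈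
          (q.map (algebraMap S (Localization.Away (g₀ * r')))).comap
            (e.symm : Localization.Away t →+* Localization.Away (g₀ * r')) := by
        rw [h1, h2]
        exact Ideal.mem_map_of_mem _ hx
      exact h4

end main

end Groth.Agent.H46.RefNN
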