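import Mathlib
import Groth.Prelude.Def_Flat
import Groth.Agent.H46.RefNN.Main

/-!
# Refined relative Noether normalization: final form with coefficients in `R_f`
-/

set_option autoImplicit false
set_option linter.style.haveILetI false
universe u

open TensorProduct MvPolynomial

namespace Groth.Agent.H46.RefNN

theorem final (R S : Type u) [CommRing R] [CommRing S]
    [Algebra R S] [Algebra.FiniteType R S] (p : Ideal R) [p.IsPrime] (q : Ideal S) [q.IsPrime]
    [q.LiesOver p]
    [Algebra (Localization.AtPrime p) (Localization.AtPrime q)]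
    [Localization.AtPrime.IsLiesOverAlgebra p q] (Q : PrimeSpectrum (p.Fiber S))
    (hQ : Q.asIdeal.comap (Algebra.TensorProduct.includeRight.toRingHom) = q) (n r : ℕ)
    (hdim : FlatMor.localDim (PrimeSpectrum (p.Fiber S)) Q = (n : WithBot ℕ∞))
    (hr : Algebra.trdeg p.ResidueField q.ResidueField = r) :
    ∃ (f : R) (g : S), f ∉ p ∧ g ∉ q ∧
      ∃ φ : MvPolynomial (Fin n) (Localization.Away f) →ₐ[R] Localization.Away g,
        φ.toRingHom.FiniteType ∧ φ.toRingHom.QuasiFinite ∧
        (q.map (algebraMap S (Localization.Away g))).comap φ =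
          p.map (algebraMap R (MvPolynomial (Fin n) (Localization.Away f))) ⊔
            Ideal.span (Set.range fun i : {i : Fin n // r ≤ (i : ℕ)} =>
              (MvPolynomial.X (i : Fin n) : MvPolynomial (Fin n) (Localization.Away f))) := by
  obtain ⟨g, hg, φ, hft, hqf, hcomap⟩ := main p q Q hQ n r hdim
    ((trdeg_residueField_eq R S p q).symm.trans hr)
  refine ⟨1, g, fun h => (‹p.IsPrime›).ne_top ((Ideal.eq_top_iff_one _).mpr h), hg, ?_⟩
  let e₁ : R ≃ₐ[R] Localization.Away (1 : R) :=
    IsLocalization.atUnits R (Submonoid.powers (1 : R)) (by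
      rintro x ⟨m, rfl⟩
      simp)
  let E : MvPolynomial (Fin n) R ≃ₐ[R] MvPolynomial (Fin n) (Localization.Away (1 : R)) :=
    MvPolynomial.mapAlgEquiv (Fin n) e₁
  have hEs : (E.symm : MvPolynomial (Fin n) (Localization.Away (1 : R)) →+*
      MvPolynomial (Fin n) R).Finite := RingHom.Finite.of_surjective _ E.symm.surjective
  refine ⟨φ.comp (E.symm : MvPolynomial (Fin n) (Localization.Away (1 : R)) →ₐ[R]
    MvPolynomial (Fin n) R), ?_, ?_, ?_⟩
  · exact RingHom.FiniteType.comp hft hEs.finiteType
  · exact RingHom.QuasiFinite.comp hqf (RingHom.QuasiFinite.of_finite hEs)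
  · have h1 : (q.map (algebraMap S (Localization.Away g))).comap
        (φ.comp (E.symm : MvPolynomial (Fin n) (Localization.Away (1 : R)) →ₐ[R]
          MvPolynomial (Fin n) R)) =
        ((q.map (algebraMap S (Localization.Away g))).comap φ).comap
          (E.symm : MvPolynomial (Fin n) (Localization.Away (1 : R)) →+*
            MvPolynomial (Fin n) R) := by
      ext x
      simp only [Ideal.mem_comap]
      rfl
    have h2 : ∀ J : Ideal (MvPolynomial (Fin n) R), J.comap
        (E.symm : MvPolynomial (Fin n) (Localization.Away (1 : R)) →+* MvPolynomial (Fin n) R) =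
        J.map (E : MvPolynomial (Fin n) R →+* MvPolynomial (Fin n) (Localization.Away (1 : R))) :=
      fun J => Ideal.comap_symm
        (E : MvPolynomial (Fin n) R ≃+* MvPolynomial (Fin n) (Localization.Away (1 : R)))
    rw [h1, hcomap, h2, Ideal.map_sup, Ideal.map_map, Ideal.map_span]
    congr 1
    · congr 1
      refine RingHom.ext fun x => ?_
      change E (C x) = _
      rw [← MvPolynomial.algebraMap_eq, E.commutes]
    · congr 1
      rw [← Set.image_comp, Set.image_eq_range]
      congr 1
      funext i
      change E (X (i : Fin n)) = _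
      simp [E]

end Groth.Agent.H46.RefNN
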